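import Cfsg.Agent.H39.Der.RowPslB
import Cfsg.Agent.H278.ElCrossRows
import Cfsg.Agent.H503.El.PG

/-!
# The row of `PSL_n(q)`, `n ≥ 3` (helper39, S3500)

`pgap_psl` : every maximal subgroup of `PSL_n(q)`, `n ≥ 3`, not `L4(2)`, `L6(2)`, misses a prime (TEAM ELUSIVE);
`row_psl`.
-/

set_option autoImplicit false

namespace Cfsg.Agent.H39.DerPsl

open Cfsg Cfsg.Geo Cfsg.Agent.OrdDiv Cfsg.Agent.H436 Cfsg.Agent.H264.FKS Cfsg.Agent.H915.GN
open Cfsg.Agent.H278.El.SporNum (IsCl exc)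
open Cfsg.Agent.H278.El.AltNum (dimOf surv)
open Cfsg.Agent.H884.Cx (excP)
open Cfsg.Agent.H278.El.Asm (res_kill named_of_simple cross_gen hasChar_card exists_char_card)
open Cfsg.Agent.H439.Der Cfsg.Agent.H938.Sax

/-- **`PSL_n(q)`, `n ≥ 4`**, except `L4(2)`, `L6(2)`, `L7(2)`, `L4(4)`: missing primes. -/
theorem pgap_psl_gen (tab : OrderTable.{0}) (hK : ∀ (X : Type) [Group X] [Finite X] [IsSimpleGroup X],
    Cfsg.IsKnownSimple' X) {F : Type} [Field F] [Fintype F] {n : ℕ} (hn : 4 ≤ n)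
    (h2 : ¬ (Fintype.card F = 2 ∧ (n = 4 ∨ n = 6 ∨ n = 7))) (h4 : ¬ (Fintype.card F = 4 ∧ n = 4))
    (M : Subgroup (Matrix.ProjectiveSpecialLinearGroup (Fin n) F)) (hM : IsCoatom M) :
    PGap (Matrix.ProjectiveSpecialLinearGroup (Fin n) F) M := by
  obtain ⟨p, hp, hpF⟩ := exists_char_card (F := F)
  have hT : IsNamed (.psl n (Fintype.card F)) (Matrix.ProjectiveSpecialLinearGroup (Fin n) F) :=
    named_psl (F := F) (n := n) (by omega) (by omega)
  have hfin : Finite (Matrix.ProjectiveSpecialLinearGroup (Fin n) F) := Quotient.finite _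
  rcases H304.GeoL.geo (by omega) hM with h | ⟨hF, hn6, -⟩ | ⟨P, hP, -⟩
  · exact h
  · exact absurd ⟨hF, Or.inr (Or.inl hn6)⟩ h2
  · obtain ⟨S, hSn, hSs, hna, hC, ⟨e⟩⟩ := exists_socle
      (Matrix.SpecialLinearGroup.toGL (n := Fin n) (R := F)) H304.PslT.toGL_injective
      (H304.PslT.pr n F) (QuotientGroup.mk'_surjective _)
      (fun x => (QuotientGroup.eq_one_iff x).trans (H304.PslT.center_iff (by omega))) hP
    obtain ⟨g, hg⟩ := named_of_simple tab hK hna
    have hres : Miss M := by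
      refine res_kill (p := p) hT (show 3 ≤ n by omega) ?_ ?_ S hC hg e (Fintype.card_fin n) id ?_ ?_
      · simp only [surv, List.mem_cons, Grp.psl.injEq, reduceCtorEq, or_false, List.not_mem_nil, not_or]
        exact ⟨fun h => h2 ⟨h.2, .inl h.1⟩, by omega⟩
      · intro g' hg'
        simp only [exc, List.mem_cons, Prod.mk.injEq, Grp.psl.injEq, reduceCtorEq, and_false, or_false, false_or,
          List.not_mem_nil] at hg'
        omega
      · exact fun hch => charRow_psl hp hpF hT hn h2 h4 M hM.1 S hSn hSs hna hC g hg hch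
      · intro s hs hsp hch
        rcases cross_gen hp hT (show 3 ≤ n by omega) (hasChar_card hp hpF) (Fintype.card_fin n) hpF S hSn hSs hna hC hP
          ⟨e⟩ hs hsp hg hch with h | h
        · exact h
        · simp only [excP, List.mem_cons, Prod.mk.injEq, Grp.psl.injEq, reduceCtorEq, and_false, false_and, or_false,
            false_or, List.not_mem_nil] at h
          omega
    exact hres

/-- **Missing primes in `PSL_n(q)`, `n ≥ 3`**, except `L4(2)`, `L6(2)`. -/
theorem pgap_psl (tab : OrderTable.{0}) (hK : ∀ (X : Type) [Group X] [Finite X] [IsSimpleGroup X],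
    Cfsg.IsKnownSimple' X) {F : Type} [Field F] [Fintype F] {n : ℕ} (hn : 3 ≤ n)
    (h42 : ¬ (n = 4 ∧ Fintype.card F = 2)) (h62 : ¬ (n = 6 ∧ Fintype.card F = 2))
    (M : Subgroup (Matrix.ProjectiveSpecialLinearGroup (Fin n) F)) (hM : IsCoatom M) :
    PGap (Matrix.ProjectiveSpecialLinearGroup (Fin n) F) M := by
  rcases Nat.lt_or_ge n 4 with h | h
  · obtain rfl : n = 3 := by omega
    exact H304.Psl3.miss hM
  by_cases h1 : Fintype.card F = 2 ∧ n = 7
  · obtain ⟨hF, rfl⟩ := h1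
    exact H503.El.pgap_psl72 tab hK F hF M hM.1
  by_cases h2 : Fintype.card F = 4 ∧ n = 4
  · obtain ⟨hF, rfl⟩ := h2
    exact H503.El.pgap_psl44 tab hK F hF M hM.1
  · exact pgap_psl_gen tab hK h (by tauto) h2 M hM

/-- **The row of `PSL_n(q)`, `n ≥ 3`.** -/
theorem row_psl (tab : OrderTable.{0}) (hK : ∀ (X : Type) [Group X] [Finite X] [IsSimpleGroup X],
    Cfsg.IsKnownSimple' X) {F : Type} [Field F] [Fintype F] {n : ℕ} (hn : 3 ≤ n)
    (hex : (n, Fintype.card F) ∉ ({(3, 2), (3, 4), (4, 2)} : Finset (ℕ × ℕ))) :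
    Row (Matrix.ProjectiveSpecialLinearGroup (Fin n) F) := by
  refine row_of_gap tab hK hn hex fun h62 M hM => pgap_psl tab hK hn ?_ h62 M hM
  simp only [Finset.mem_insert, Finset.mem_singleton, Prod.mk.injEq] at hex
  tauto

end Cfsg.Agent.H39.DerPsl
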