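import Mathlib

/-!
# Numbers for `NSC (PSL_n(q))` (helper39, S3500)
-/

set_option autoImplicit false

namespace Cfsg.Agent.H39.DerPsl

open Finset

/-- `1 + q + ... + q ^ (n - 1)` -/
def gs (q n : ℕ) : ℕ := ∑ i ∈ range n, q ^ i

theorem gs_succ (q n : ℕ) : gs q (n + 1) = q * gs q n + 1 := geom_sum_succ

theorem gs_three (q : ℕ) : gs q 3 = q ^ 2 + q + 1 := by
  simp [gs, Finset.sum_range_succ]; ring

theorem gs_four (q : ℕ) : gs q 4 = q ^ 3 + q ^ 2 + q + 1 := by
  simp [gs, Finset.sum_range_succ]; ring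

theorem gs_mul (q n : ℕ) (hq : 1 ≤ q) : gs q n * (q - 1) = q ^ n - 1 := by
  obtain ⟨c, rfl⟩ : ∃ c, q = c + 1 := ⟨q - 1, by omega⟩
  induction n with
  | zero => simp [gs]
  | succ n ih =>
    rw [gs_succ, add_mul, mul_assoc, ih, one_mul, pow_succ]
    have : 1 ≤ (c + 1) ^ n := Nat.one_le_pow _ _ (by omega)
    rw [Nat.add_sub_cancel]
    have h2 : (c + 1) ^ n * (c + 1) = (c + 1) * ((c + 1) ^ n - 1) + (c + 1) := by
      obtain ⟨d, hd⟩ : ∃ d, (c + 1) ^ n = d + 1 := ⟨(c + 1) ^ n - 1, by omega⟩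
      rw [hd, Nat.add_sub_cancel]; ring
    omega

theorem two_f {p f q : ℕ} (hp : p.Prime) (hf : 1 ≤ f) (hq : q = p ^ f) : 2 ^ f ≤ q ∧ 2 * f ≤ q := by
  have h1 : 2 ^ f ≤ q := by rw [hq]; exact Nat.pow_le_pow_left hp.two_le f
  refine ⟨h1, le_trans ?_ h1⟩
  obtain ⟨g, rfl⟩ : ∃ g, f = g + 1 := ⟨f - 1, by omega⟩
  have h2 : g < 2 ^ g := Nat.lt_two_pow_self
  rw [pow_succ]
  omega

theorem gs_lt {q e : ℕ} (hq : 3 ≤ q) (he : 3 ≤ e) : e * q + 1 < gs q e := by
  induction e, he using Nat.le_induction with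
  | base => rw [gs_three]; nlinarith
  | succ n hn ih => rw [gs_succ]; nlinarith

theorem gs_lt2 {e : ℕ} (he : 4 ≤ e) : 2 * e + 1 < gs 2 e := by
  induction e, he using Nat.le_induction with
  | base => decide
  | succ n hn ih => rw [gs_succ]; omega

theorem gs_lt3 {e : ℕ} (he : 4 ≤ e) : (2 * e + 1) * 2 < gs 3 e := by
  induction e, he using Nat.le_induction with
  | base => decide
  | succ n hn ih => rw [gs_succ]; omega

theorem gs_lt4 {e : ℕ} (he : 4 ≤ e) : (4 * e + 1) * 3 < gs 4 e := by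
  induction e, he using Nat.le_induction with
  | base => decide
  | succ n hn ih => rw [gs_succ]; omega

theorem gs_lt5 {q e : ℕ} (hq : 5 ≤ q) (he : 4 ≤ e) : (e * q + 1) * e < gs q e := by
  induction e, he using Nat.le_induction with
  | base =>
    rw [gs_four]
    have h1 : 25 ≤ q ^ 2 := by nlinarith
    have h2 : 25 * q ≤ q ^ 3 := by
      rw [pow_succ]
      exact Nat.mul_le_mul_right q h1
    nlinarith
  | succ n hn ih =>
    rw [gs_succ]
    have h1 : q * ((n * q + 1) * n) < q * gs q n := Nat.mul_lt_mul_of_pos_left ih (by omega)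
    have h2 : 5 * ((n * q + 1) * n) ≤ q * ((n * q + 1) * n) := Nat.mul_le_mul_right _ hq
    have h4 : (n + 1) * (n + 1) ≤ 5 * (n * n) := by nlinarith
    have h5 : (n + 1) * (n + 1) * q ≤ 5 * (n * n) * q := Nat.mul_le_mul_right q h4
    have h3 : ((n + 1) * q + 1) * (n + 1) ≤ 5 * ((n * q + 1) * n) := by nlinarith
    omega

/-- the torus of `GL_(n-1)(q)` -/
theorem num_a {p f q e : ℕ} (hp : p.Prime) (hf : 1 ≤ f) (hq : q = p ^ f) (he : 3 ≤ e)
    (h2 : ¬ (e = 3 ∧ q = 2)) : 2 * (e * f) + 1 < gs q e := by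
  obtain ⟨h3, h4⟩ := two_f hp hf hq
  have hq2 : 2 ≤ q := by omega
  rcases Nat.eq_or_lt_of_le hq2 with h5 | h5
  · subst h5
    have hf1 : f = 1 := by omega
    subst hf1
    have := gs_lt2 (e := e) (by omega)
    omega
  · have := gs_lt (q := q) (e := e) (by omega) he
    nlinarith

/-- the Singer torus -/
theorem num_b {p f q n d : ℕ} (hp : p.Prime) (hf : 1 ≤ f) (hq : q = p ^ f) (hn : 3 ≤ n)
    (h2 : ¬ (n = 3 ∧ q = 2)) (h4 : ¬ (n = 3 ∧ q = 4)) (hd : d ∣ Nat.gcd n (q - 1)) :
    (2 * (n * f) + 1) * d < gs q n := by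
  obtain ⟨h5, h6⟩ := two_f hp hf hq
  have hq2 : 2 ≤ q := by omega
  have hdn : d ≤ n := Nat.le_of_dvd (by omega) (hd.trans (Nat.gcd_dvd_left _ _))
  have hdq : d ≤ q - 1 := Nat.le_of_dvd (by omega) (hd.trans (Nat.gcd_dvd_right _ _))
  rcases Nat.lt_or_ge n 4 with h | h
  · obtain rfl : n = 3 := by omega
    rw [gs_three]
    rcases Nat.lt_or_ge q 9 with h9 | h9
    · have hf4 : f < 4 := by
        by_contra hc
        have : 2 ^ 4 ≤ 2 ^ f := Nat.pow_le_pow_right (by norm_num) (by omega)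
        omega
      interval_cases q
      · omega
      · -- q = 3
        have hd1 : d ∣ 1 := hd
        have : d = 1 := Nat.dvd_one.1 hd1
        subst this
        interval_cases f <;> omega
      · omega
      · -- q = 5
        have hd1 : d ∣ 1 := hd
        have : d = 1 := Nat.dvd_one.1 hd1
        subst this
        interval_cases f <;> omega
      · -- q = 6
        have hd1 : d ∣ 1 := hd
        have : d = 1 := Nat.dvd_one.1 hd1
        subst this
        interval_cases f <;> omega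
      · interval_cases f <;> omega
      · -- q = 8
        have hd1 : d ∣ 1 := hd
        have : d = 1 := Nat.dvd_one.1 hd1
        subst this
        interval_cases f <;> omega
    · have h7 : (2 * (3 * f) + 1) * d ≤ (3 * q + 1) * 3 := Nat.mul_le_mul (by omega) hdn
      nlinarith
  · rcases Nat.lt_or_ge q 5 with h9 | h9
    · have hf4 : f < 3 := by
        by_contra hc
        have : 2 ^ 3 ≤ 2 ^ f := Nat.pow_le_pow_right (by norm_num) (by omega)
        omega
      interval_cases q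
      · have := gs_lt2 h
        have hd1 : d ≤ 1 := hdq
        have hf1 : f = 1 := by interval_cases f <;> omega
        subst hf1
        have : (2 * (n * 1) + 1) * d ≤ (2 * (n * 1) + 1) * 1 := Nat.mul_le_mul_left _ hd1
        omega
      · have := gs_lt3 h
        have hd1 : d ≤ 2 := hdq
        have hf1 : f = 1 := by interval_cases f <;> omega
        subst hf1
        have : (2 * (n * 1) + 1) * d ≤ (2 * (n * 1) + 1) * 2 := Nat.mul_le_mul_left _ hd1
        omega
      · have := gs_lt4 h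
        have hd1 : d ≤ 3 := hdq
        have : (2 * (n * f) + 1) * d ≤ (4 * n + 1) * 3 := Nat.mul_le_mul (by nlinarith) hd1
        omega
    · have := gs_lt5 h9 h
      have h7 : (2 * (n * f) + 1) * d ≤ (n * q + 1) * n := Nat.mul_le_mul (by nlinarith) hdn
      omega

end Cfsg.Agent.H39.DerPsl
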