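import Cfsg.Agent.H39.Der.Num
import Cfsg.Agent.H72.AdjPSL

/-!
# Orders of elements of `PSL_n(q)` (helper39, S3500)

* `exists_tor`    : `(q ^ (n - 1) - 1) / (n, q - 1)`;
* `exists_singer` : `gs q n / (gs q n, (n, q - 1))`;
* `exists_three_char`, `exists_three_tor` : `n = 3`, orders `p (q - 1) / (3, q - 1)` and `q - 1`.
-/

set_option autoImplicit false

namespace Cfsg.Agent.H39.DerPsl

open Matrix Cfsg.Agent.H72 Cfsg.Agent.H72.AdjPSL

variable {F : Type*} [Field F] [Fintype F] {n : ℕ}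

theorem pow_gcd_eq_one {c : F} (hn : 1 ≤ n) (h : c ^ n = 1) : c ^ Nat.gcd n (Fintype.card F - 1) = 1 := by
  have hc : c ≠ 0 := by
    rintro rfl
    rw [zero_pow (by omega)] at h
    exact zero_ne_one h
  have h1 : c ^ (Fintype.card F - 1) = 1 := FiniteField.pow_card_sub_one_eq_one c hc
  exact orderOf_dvd_iff_pow_eq_one.1 (Nat.dvd_gcd (orderOf_dvd_of_pow_eq_one h) (orderOf_dvd_of_pow_eq_one h1))

theorem pow_sub_dvd (q a : ℕ) (hq : 1 ≤ q) : q - 1 ∣ q ^ a - 1 := ⟨gs q a, by rw [mul_comm, gs_mul q a hq]⟩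

/-- **The torus of type `(n - 1, 1)`.** -/
theorem exists_tor (hn : 2 ≤ n) : ∃ z : Matrix.ProjectiveSpecialLinearGroup (Fin n) F,
    orderOf z = (Fintype.card F ^ (n - 1) - 1) / Nat.gcd n (Fintype.card F - 1) := by
  classical
  set q := Fintype.card F with hq
  have hq1 : 1 < q := Fintype.one_lt_card
  obtain ⟨A, hA⟩ := AdjPSU.exists_singer F (m := n - 1) (by omega)
  set d := Nat.gcd n (q - 1) with hd
  have hd0 : 0 < d := Nat.gcd_pos_of_pos_left _ (by omega)
  have hdq : d ∣ q ^ (n - 1) - 1 := (Nat.gcd_dvd_right _ _).trans (pow_sub_dvd q (n - 1) hq1.le)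
  let e : Fin n ≃ Fin (n - 1) ⊕ Fin 1 := (finCongr (show n = (n - 1) + 1 by omega)).trans finSumFinEquiv.symm
  have hAu : IsUnit (A : Matrix (Fin (n - 1)) (Fin (n - 1)) F).det := (Matrix.isUnit_iff_isUnit_det _).1 (Units.isUnit A)
  have hA0 := hAu.ne_zero
  refine exists_order_of_index e (A := fromBlocks (A : Matrix (Fin (n - 1)) (Fin (n - 1)) F) 0 0
    (((A : Matrix (Fin (n - 1)) (Fin (n - 1)) F).det)⁻¹ • (1 : Matrix (Fin 1) (Fin 1) F))) (N := (q ^ (n - 1) - 1) / d)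
    ?_ ?_ _ dvd_rfl
  · rw [Matrix.det_fromBlocks_zero₂₁, Matrix.det_smul, Fintype.card_fin, pow_one, Matrix.det_one, mul_one,
      mul_inv_cancel₀ hA0]
  · intro k c hk
    rw [AdjPSU.fromBlocks_pow] at hk
    obtain ⟨h1, h2⟩ := AdjPSU.fromBlocks_eq_smul hk
    have h3 : ((A : Matrix (Fin (n - 1)) (Fin (n - 1)) F).det)⁻¹ ^ k = c := by
      rw [_root_.smul_pow, one_pow] at h2
      have := congrFun (congrFun h2 0) 0
      simpa using this
    have h4 : ((A : Matrix (Fin (n - 1)) (Fin (n - 1)) F).det) ^ k = c ^ (n - 1) := by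
      rw [← Matrix.det_pow, h1, Matrix.det_smul, Fintype.card_fin, Matrix.det_one, mul_one]
    have h5 : c ^ n = 1 := by
      have h6 : c ^ (n - 1) * c = 1 := by
        rw [← h4, ← h3, inv_pow]
        exact mul_inv_cancel₀ (pow_ne_zero _ hA0)
      rw [← pow_succ] at h6
      rwa [show n - 1 + 1 = n by omega] at h6
    have h7 := pow_gcd_eq_one (by omega) h5
    have h8 : A ^ (k * d) = 1 := by
      apply Units.ext
      rw [Units.val_pow_eq_pow_val, pow_mul, h1, _root_.smul_pow, one_pow, ← hq, ← hd] at *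
      rw [h7, one_smul, Units.val_one]
    have h9 := orderOf_dvd_of_pow_eq_one h8
    rw [hA] at h9
    exact (Nat.div_dvd_iff_dvd_mul hdq hd0).2 (by rwa [mul_comm])

/-- **The Singer torus.** -/
theorem exists_sing (hn : 1 ≤ n) : ∃ z : Matrix.ProjectiveSpecialLinearGroup (Fin n) F,
    orderOf z = gs (Fintype.card F) n / Nat.gcd (gs (Fintype.card F) n) (Nat.gcd n (Fintype.card F - 1)) := by
  classical
  set q := Fintype.card F with hq
  have hq1 : 1 < q := Fintype.one_lt_card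
  obtain ⟨A, hA⟩ := AdjPSU.exists_singer F (m := n) (by omega)
  set d := Nat.gcd n (q - 1) with hd
  have hd0 : 0 < d := Nat.gcd_pos_of_pos_left _ (by omega)
  refine exists_order ((A : Matrix (Fin n) (Fin n) F) ^ (q - 1)) ?_ (N := gs q n / Nat.gcd (gs q n) d) ?_ _ dvd_rfl
  · rw [Matrix.det_pow]
    apply FiniteField.pow_card_sub_one_eq_one
    exact ((Matrix.isUnit_iff_isUnit_det _).1 (Units.isUnit _)).ne_zero
  · intro k c hk
    have h5 : c ^ n = 1 := by
      have h6 := congrArg Matrix.det hk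
      rw [Matrix.det_smul, Fintype.card_fin, Matrix.det_one, mul_one, ← pow_mul, mul_comm, pow_mul, Matrix.det_pow,
        Matrix.det_pow, ← pow_mul, mul_comm, pow_mul] at h6
      rw [← h6, FiniteField.pow_card_sub_one_eq_one _ ((Matrix.isUnit_iff_isUnit_det _).1 (Units.isUnit A)).ne_zero,
        one_pow]
    have h7 := pow_gcd_eq_one (by omega) h5
    have h8 : A ^ ((q - 1) * k * d) = 1 := by
      apply Units.ext
      rw [Units.val_pow_eq_pow_val, pow_mul, pow_mul, hk, _root_.smul_pow, one_pow, Units.val_one]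
      rw [← hq, ← hd] at h7
      rw [h7, one_smul]
    have h9 := orderOf_dvd_of_pow_eq_one h8
    rw [hA, ← hq, ← gs_mul q n hq1.le, mul_comm, mul_assoc] at h9
    have h10 : gs q n ∣ k * d := Nat.dvd_of_mul_dvd_mul_left (by omega) h9
    have hg0 : 0 < Nat.gcd (gs q n) d := Nat.gcd_pos_of_pos_right _ hd0
    have h11 : gs q n / Nat.gcd (gs q n) d ∣ k * (d / Nat.gcd (gs q n) d) := by
      rw [Nat.div_dvd_iff_dvd_mul (Nat.gcd_dvd_left _ _) hg0, mul_comm (Nat.gcd (gs q n) d), mul_assoc,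
        Nat.div_mul_cancel (Nat.gcd_dvd_right _ _)]
      exact h10
    exact (Nat.coprime_div_gcd_div_gcd hg0).dvd_of_dvd_mul_right h11

theorem exists_gen : ∃ a : F, a ≠ 0 ∧ ∀ k : ℕ, a ^ k = 1 ↔ Fintype.card F - 1 ∣ k := by
  obtain ⟨y, hy⟩ := IsCyclic.exists_generator (α := Fˣ)
  have hordy : orderOf y = Fintype.card F - 1 := by
    rw [orderOf_eq_card_of_forall_mem_zpowers hy, Nat.card_units, Nat.card_eq_fintype_card]
  refine ⟨(y : F), y.ne_zero, fun k => ?_⟩
  rw [← hordy, orderOf_dvd_iff_pow_eq_one, ← Units.val_pow_eq_pow_val]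
  exact ⟨fun h => Units.ext h, fun h => by rw [h, Units.val_one]⟩

/-- `n = 3`: a transvection times a homology -/
theorem exists_three_char (p : ℕ) [hp : Fact p.Prime] [CharP F p] :
    ∃ z : Matrix.ProjectiveSpecialLinearGroup (Fin 3) F,
      orderOf z = p * ((Fintype.card F - 1) / Nat.gcd 3 (Fintype.card F - 1)) := by
  obtain ⟨a, ha, hak⟩ := exists_gen (F := F)
  have hq1 : 1 < Fintype.card F := Fintype.one_lt_card
  have hpow : ∀ k : ℕ, (!![a, a, 0; 0, a, 0; 0, 0, (a ^ 2)⁻¹] : Matrix (Fin 3) (Fin 3) F) ^ k =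
      !![a ^ k, k * a ^ k, 0; 0, a ^ k, 0; 0, 0, ((a ^ 2)⁻¹) ^ k] := by
    intro k
    induction k with
    | zero => simp [Matrix.one_fin_three]
    | succ k ih =>
      rw [pow_succ, ih]
      ext i j
      fin_cases i <;> fin_cases j <;> simp [Matrix.mul_apply, Fin.sum_univ_three, pow_succ]; ring
  refine exists_order (!![a, a, 0; 0, a, 0; 0, 0, (a ^ 2)⁻¹] : Matrix (Fin 3) (Fin 3) F) ?_
    (N := p * ((Fintype.card F - 1) / Nat.gcd 3 (Fintype.card F - 1))) ?_ _ dvd_rfl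
  · rw [Matrix.det_fin_three]
    simp
    field_simp
  · intro k c hk
    rw [hpow] at hk
    have h1 := congrFun (congrFun hk 0) 0
    have h2 := congrFun (congrFun hk 0) 1
    have h3 := congrFun (congrFun hk 2) 2
    simp at h1 h2 h3
    have hpk : p ∣ k := by
      rcases h2 with h2 | ⟨h2, -⟩
      · exact (CharP.cast_eq_zero_iff F p k).1 h2
      · exact absurd h2 ha
    have h4 : a ^ (3 * k) = 1 := by
      have h5 : a ^ k * ((a ^ 2) ^ k) = 1 := by
        rw [h1, ← h3, inv_mul_cancel₀ (pow_ne_zero _ (pow_ne_zero _ ha))]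
      rw [← h5, ← pow_mul, ← pow_add]
      congr 1
      ring
    have h6 := (hak _).1 h4
    have hg0 : 0 < Nat.gcd 3 (Fintype.card F - 1) := Nat.gcd_pos_of_pos_left _ (by norm_num)
    have h7 : (Fintype.card F - 1) / Nat.gcd 3 (Fintype.card F - 1) ∣
        (3 / Nat.gcd 3 (Fintype.card F - 1)) * k := by
      rw [Nat.div_dvd_iff_dvd_mul (Nat.gcd_dvd_right _ _) hg0, ← mul_assoc,
        Nat.mul_div_cancel' (Nat.gcd_dvd_left _ _)]
      exact h6
    have h8 : (Fintype.card F - 1) / Nat.gcd 3 (Fintype.card F - 1) ∣ k :=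
      ((Nat.coprime_div_gcd_div_gcd hg0).symm).dvd_of_dvd_mul_left h7
    refine Nat.Coprime.mul_dvd_of_dvd_of_dvd ?_ hpk h8
    refine (Nat.Prime.coprime_iff_not_dvd hp.out).2 fun h9 => ?_
    obtain ⟨m, -, hm⟩ := FiniteField.card F p
    have h10 : p ∣ Fintype.card F - 1 := h9.trans (Nat.div_dvd_of_dvd (Nat.gcd_dvd_right _ _))
    have h11 : p ∣ Fintype.card F := by rw [hm]; exact dvd_pow_self p m.pos.ne'
    have h12 := Nat.dvd_sub h11 h10
    rw [show Fintype.card F - (Fintype.card F - 1) = 1 by omega] at h12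
    exact hp.out.one_lt.ne' (Nat.dvd_one.1 h12)

/-- `n = 3`: the split torus, `3 ∥ q - 1` -/
theorem exists_three_tor {m : ℕ} (hm : Fintype.card F - 1 = 3 * m) (h3 : Nat.Coprime 3 m) :
    ∃ z : Matrix.ProjectiveSpecialLinearGroup (Fin 3) F, orderOf z = 3 * m := by
  obtain ⟨a, ha, hak⟩ := exists_gen (F := F)
  have hw : (a ^ m) ^ 3 = 1 := by rw [← pow_mul, hak, hm, mul_comm]
  refine exists_order (Matrix.diagonal ![a ^ 3, a ^ m * (a ^ 3)⁻¹, (a ^ m) ^ 2]) ?_ (N := 3 * m) ?_ _ dvd_rfl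
  · rw [Matrix.det_diagonal, Fin.prod_univ_three]
    show a ^ 3 * (a ^ m * (a ^ 3)⁻¹) * (a ^ m) ^ 2 = 1
    have h0 : a ^ 3 ≠ 0 := pow_ne_zero _ ha
    calc a ^ 3 * (a ^ m * (a ^ 3)⁻¹) * (a ^ m) ^ 2 = (a ^ 3 * (a ^ 3)⁻¹) * (a ^ m) ^ 3 := by ring
      _ = 1 := by rw [mul_inv_cancel₀ h0, hw, one_mul]
  · intro k c hk
    rw [Matrix.diagonal_pow] at hk
    have h1 := congrFun (congrFun hk 0) 0
    have h2 := congrFun (congrFun hk 1) 1
    have h4 := congrFun (congrFun hk 2) 2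
    simp only [Matrix.diagonal_apply_eq, Matrix.smul_apply, Matrix.one_apply_eq, smul_eq_mul, mul_one,
      Pi.pow_apply] at h1 h2 h4
    have h1' : (a ^ 3) ^ k = c := h1
    have h2' : (a ^ m * (a ^ 3)⁻¹) ^ k = c := h2
    have h4' : ((a ^ m) ^ 2) ^ k = c := h4
    have hc3 : c ^ 3 = 1 := by
      calc c ^ 3 = c * c * c := by ring
        _ = (a ^ 3) ^ k * (a ^ m * (a ^ 3)⁻¹) ^ k * ((a ^ m) ^ 2) ^ k := by rw [h1', h2', h4']
        _ = (a ^ 3 * (a ^ m * (a ^ 3)⁻¹) * (a ^ m) ^ 2) ^ k := by rw [← mul_pow, ← mul_pow]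
        _ = 1 := by
          have h0 : a ^ 3 ≠ 0 := pow_ne_zero _ ha
          rw [show a ^ 3 * (a ^ m * (a ^ 3)⁻¹) * (a ^ m) ^ 2 = (a ^ 3 * (a ^ 3)⁻¹) * (a ^ m) ^ 3 by ring,
            mul_inv_cancel₀ h0, hw, one_mul, one_pow]
    have h5 : a ^ (9 * k) = 1 := by
      rw [← hc3, ← h1', ← pow_mul, ← pow_mul]
      congr 1
      ring
    rw [hak, hm] at h5
    have h6 : m ∣ 3 * k := Nat.dvd_of_mul_dvd_mul_left (show 0 < 3 by norm_num) (by
      rw [← mul_assoc]; exact h5)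
    have h7 : m ∣ k := h3.symm.dvd_of_dvd_mul_left h6
    have hc1 : c = 1 := by
      rw [← h1', ← pow_mul, hak, hm]
      exact Nat.mul_dvd_mul_left 3 h7
    have h8 : a ^ (m * (2 * k)) = 1 := by
      rw [← hc1, ← h4', ← pow_mul, ← pow_mul]
    rw [hak, hm, mul_comm 3 m] at h8
    have hm0 : 0 < m := by
      rcases Nat.eq_zero_or_pos m with h | h
      · subst h
        have := Fintype.one_lt_card (α := F)
        omega
      · exact h
    have h9 : 3 ∣ 2 * k := Nat.dvd_of_mul_dvd_mul_left hm0 h8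
    have h10 : 3 ∣ k := (by norm_num : Nat.Coprime 3 2).dvd_of_dvd_mul_left h9
    exact h3.mul_dvd_of_dvd_of_dvd h10 h7

end Cfsg.Agent.H39.DerPsl
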