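import Cfsg.Agent.H39.Der.PslSC
import Cfsg.Agent.H39.Der.PslOrd

/-!
# `NSC (PSL_n(q))`, `n ≥ 3`, except `L3(2)`, `L3(4)`, `L4(2)` (helper39, S3500)
-/

set_option autoImplicit false

namespace Cfsg.Agent.H39.DerPsl

open Matrix Cfsg.Agent.H72 Cfsg.Agent.H72.AdjPSL Cfsg.Agent.H72.AdjOrth Cfsg.Agent.H439.Der

variable {F : Type*} [Field F] [Fintype F] {n : ℕ}

theorem finite_psl : Finite (Matrix.ProjectiveSpecialLinearGroup (Fin n) F) := by
  classical
  exact Quotient.finite _

theorem not_SC_of_two {v s : ℕ} (hv : v.Prime) (hs : s.Prime)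
    (h : ∃ z : Matrix.ProjectiveSpecialLinearGroup (Fin n) F, orderOf z = v * s) :
    ¬ SC (Matrix.ProjectiveSpecialLinearGroup (Fin n) F) v := by
  have := finite_psl (F := F) (n := n)
  obtain ⟨z, hz⟩ := h
  refine not_SC_of_orderOf hv (y := z) (by rw [hz]; exact dvd_mul_right _ _) ?_
  rw [hz]
  intro h2
  have := hs.one_lt
  have := hv.pos
  nlinarith

theorem not_SC_of_ord {v N : ℕ} (hv : v.Prime) (hd : v ∣ N) (hne : N ≠ v)
    (h : ∃ z : Matrix.ProjectiveSpecialLinearGroup (Fin n) F, orderOf z = N) :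
    ¬ SC (Matrix.ProjectiveSpecialLinearGroup (Fin n) F) v := by
  have := finite_psl (F := F) (n := n)
  obtain ⟨z, hz⟩ := h
  exact not_SC_of_orderOf hv (y := z) (by rw [hz]; exact hd) (by rw [hz]; exact hne)

/-- the primes of weight at most `n - 2`, other than the characteristic -/
theorem nsc_small {p v : ℕ} [hp : Fact p.Prime] [CharP F p] (hv : v.Prime) (hvp : v ≠ p)
    (h : wL (Fintype.card F) v + 2 ≤ n) : ¬ SC (Matrix.ProjectiveSpecialLinearGroup (Fin n) F) v := by
  have hpq : p ∣ Fintype.card F := by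
    obtain ⟨m, -, hm⟩ := FiniteField.card F p
    rw [hm]
    exact dvd_pow_self p m.pos.ne'
  refine not_SC_of_two hv hp.out (adj_of_wL hv hp.out hvp ?_)
  have h1 : wL (Fintype.card F) p = 2 := by rw [wL, if_pos (Or.inl hpq)]
  omega

/-- the characteristic, `n ≥ 4` -/
theorem nsc_char {p : ℕ} [hp : Fact p.Prime] [CharP F p] (hn : 4 ≤ n) :
    ¬ SC (Matrix.ProjectiveSpecialLinearGroup (Fin n) F) p := by
  have hq1 : 1 < Fintype.card F := Fintype.one_lt_card
  have hpq : p ∣ Fintype.card F := by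
    obtain ⟨m, -, hm⟩ := FiniteField.card F p
    rw [hm]
    exact dvd_pow_self p m.pos.ne'
  have h1 : wL (Fintype.card F) p = 2 := by rw [wL, if_pos (Or.inl hpq)]
  have h2 : Fintype.card F ^ 2 - 1 ≠ 1 := by
    have : 2 ^ 2 ≤ Fintype.card F ^ 2 := Nat.pow_le_pow_left hq1 2
    omega
  obtain ⟨s, hs, hsd⟩ := Nat.exists_prime_and_dvd h2
  have hsp : p ≠ s := by
    rintro rfl
    have h3 : p ∣ Fintype.card F ^ 2 := dvd_pow hpq two_ne_zero
    have h4 : p ∣ 1 := by
      have h5 := Nat.dvd_sub h3 hsd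
      have h6 : Fintype.card F ^ 2 - (Fintype.card F ^ 2 - 1) = 1 := by
        have : 1 ≤ Fintype.card F ^ 2 := Nat.one_le_pow _ _ (by omega)
        omega
      rwa [h6] at h5
    exact hs.one_lt.ne' (Nat.dvd_one.1 h4)
  have h3 : wL (Fintype.card F) s ≤ 2 := by
    rw [wL]
    split_ifs with h4
    · exact le_rfl
    · have h5 := ee_dvd (by omega : 1 ≤ Fintype.card F) hsd
      exact Nat.le_of_dvd (by norm_num) h5
  exact not_SC_of_two hp.out hs (adj_of_wL hp.out hs hsp (by omega))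

theorem coprime_of_dvd_pow {v q e : ℕ} (hq : 1 ≤ q) (he : e ≠ 0) (hv : v.Prime) (h : v ∣ q ^ e - 1) : ¬ v ∣ q := by
  intro h1
  have h2 : v ∣ q ^ e := h1.trans (dvd_pow_self q he)
  have h3 := Nat.dvd_sub h2 h
  rw [show q ^ e - (q ^ e - 1) = 1 by have := Nat.one_le_pow e q hq; omega] at h3
  exact hv.one_lt.ne' (Nat.dvd_one.1 h3)

/-- the primes of weight `n - 1` -/
theorem nsc_tor {p v : ℕ} [hp : Fact p.Prime] [CharP F p] (hn : 3 ≤ n) (hv : v.Prime)
    (h24 : ¬ (n = 3 ∧ (Fintype.card F = 2 ∨ Fintype.card F = 4)) ∧ ¬ (n = 4 ∧ Fintype.card F = 2))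
    (hvp : v ≠ p) (hvq : ¬ v ∣ Fintype.card F - 1)
    (he : orderOf ((Fintype.card F : ℕ) : ZMod v) = n - 1)
    (hd : v ∣ Nat.card (Matrix.ProjectiveSpecialLinearGroup (Fin n) F)) :
    ¬ SC (Matrix.ProjectiveSpecialLinearGroup (Fin n) F) v := by
  obtain ⟨m, -, hm⟩ := FiniteField.card F p
  have hvd : v ∣ Fintype.card F ^ (n - 1) - 1 := by
    have h1 := dvd_pow_ee (q := Fintype.card F) (r := v) Fintype.card_pos
    rwa [ee, he] at h1
  have hgq : Nat.gcd n (Fintype.card F - 1) ∣ Fintype.card F - 1 := Nat.gcd_dvd_right _ _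
  have hz := exists_tor (F := F) (n := n) (by omega)
  set q := Fintype.card F with hq
  have hq1 : 1 < q := Fintype.one_lt_card
  set d := Nat.gcd n (q - 1) with hdd
  have hd0 : 0 < d := Nat.gcd_pos_of_pos_left _ (by omega)
  have hdq : d ∣ q ^ (n - 1) - 1 := hgq.trans (pow_sub_dvd q (n - 1) hq1.le)
  have hvd' : ¬ v ∣ d := fun h => hvq (h.trans hgq)
  obtain ⟨c, hc⟩ := hdq
  rw [hc, Nat.mul_div_cancel_left c hd0] at hz
  have hvc : v ∣ c := by
    rw [hc] at hvd
    exact (hv.dvd_mul.1 hvd).resolve_left hvd'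
  by_cases hcv : c = v
  · -- `q ^ (n - 1) - 1 = d v`
    subst hcv
    have h1 : q - 1 ∣ d * c := by rw [← hc]; exact pow_sub_dvd q (n - 1) hq1.le
    have h2 : q - 1 ∣ d := (((Nat.Prime.coprime_iff_not_dvd hv).2 hvq).symm).dvd_of_dvd_mul_right h1
    have h3 : d = q - 1 := Nat.dvd_antisymm hgq h2
    have h4 : gs q (n - 1) = c := by
      have h5 := gs_mul q (n - 1) hq1.le
      rw [hc, h3, mul_comm (q - 1)] at h5
      exact Nat.eq_of_mul_eq_mul_right (by omega) h5
    have h5 : d ≤ n := Nat.le_of_dvd (by omega) (Nat.gcd_dvd_left _ _)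
    have h6 : d ∣ n := Nat.gcd_dvd_left _ _
    rcases Nat.lt_or_ge n 4 with h7 | h7
    · obtain rfl : n = 3 := by omega
      rw [h3] at h6
      have h8 : q - 1 = 1 ∨ q - 1 = 3 := (Nat.dvd_prime Nat.prime_three).1 h6
      exfalso
      apply h24.1
      refine ⟨rfl, ?_⟩
      omega
    · intro hSC
      have h8 := sub_one_le (F := F) (by omega) hm hv hvp hvq (by omega) he hd hSC
      have h9 := num_a (e := n - 1) hp.out m.pos hm (by omega) (by omega)
      rw [h4] at h9
      omega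
  · exact not_SC_of_ord hv hvc hcv hz

/-- the primes of weight `n` -/
theorem nsc_sing {p v : ℕ} [hp : Fact p.Prime] [CharP F p] (hn : 3 ≤ n) (hv : v.Prime)
    (h24 : ¬ (n = 3 ∧ (Fintype.card F = 2 ∨ Fintype.card F = 4)))
    (hvp : v ≠ p) (hvq : ¬ v ∣ Fintype.card F - 1)
    (he : orderOf ((Fintype.card F : ℕ) : ZMod v) = n)
    (hd : v ∣ Nat.card (Matrix.ProjectiveSpecialLinearGroup (Fin n) F)) :
    ¬ SC (Matrix.ProjectiveSpecialLinearGroup (Fin n) F) v := by
  obtain ⟨m, -, hm⟩ := FiniteField.card F p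
  have hvd : v ∣ Fintype.card F ^ n - 1 := by
    have h1 := dvd_pow_ee (q := Fintype.card F) (r := v) Fintype.card_pos
    rwa [ee, he] at h1
  have hgq : Nat.gcd n (Fintype.card F - 1) ∣ Fintype.card F - 1 := Nat.gcd_dvd_right _ _
  have hz := exists_sing (F := F) (n := n) (by omega)
  set q := Fintype.card F with hq
  have hq1 : 1 < q := Fintype.one_lt_card
  set d := Nat.gcd n (q - 1) with hdd
  have hd0 : 0 < d := Nat.gcd_pos_of_pos_left _ (by omega)
  have hg0 : 0 < Nat.gcd (gs q n) d := Nat.gcd_pos_of_pos_right _ hd0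
  have hvg : v ∣ gs q n := by
    rw [← gs_mul q n hq1.le] at hvd
    exact (hv.dvd_mul.1 hvd).resolve_right hvq
  obtain ⟨c, hc⟩ := Nat.gcd_dvd_left (gs q n) d
  have hz' : ∃ z : Matrix.ProjectiveSpecialLinearGroup (Fin n) F, orderOf z = c := by
    have h1 : gs q n / Nat.gcd (gs q n) d = c := Nat.div_eq_of_eq_mul_right hg0 hc
    rwa [h1] at hz
  have hvc : v ∣ c := by
    rw [hc] at hvg
    exact (hv.dvd_mul.1 hvg).resolve_left fun h => hvq ((h.trans (Nat.gcd_dvd_right _ _)).trans hgq)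
  by_cases hcv : c = v
  · subst hcv
    intro hSC
    have h8 := sub_one_le (F := F) (by omega) hm hv hvp hvq (by omega) he hd hSC
    have h9 := num_b (n := n) (d := Nat.gcd (gs q n) d) hp.out m.pos hm hn (by tauto) (by tauto)
      (Nat.gcd_dvd_right _ _)
    have h10 : gs q n = c * Nat.gcd (gs q n) d := by rw [mul_comm]; exact hc
    have h11 : (2 * (n * (m : ℕ)) + 1) * Nat.gcd (gs q n) d < c * Nat.gcd (gs q n) d := by
      rw [← h10]
      exact h9
    have h12 := Nat.lt_of_mul_lt_mul_right h11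
    omega
  · exact not_SC_of_ord hv hvc hcv hz'

/-- **`NSC (PSL_n(q))`.** -/
theorem nsc_psl (hn : 3 ≤ n) (hex : (n, Fintype.card F) ∉ ({(3, 2), (3, 4), (4, 2)} : Finset (ℕ × ℕ))) :
    NSC (Matrix.ProjectiveSpecialLinearGroup (Fin n) F) := by
  have h24 : ¬ (n = 3 ∧ (Fintype.card F = 2 ∨ Fintype.card F = 4)) ∧ ¬ (n = 4 ∧ Fintype.card F = 2) := by
    simp only [Finset.mem_insert, Finset.mem_singleton, Prod.mk.injEq] at hex
    tauto
  intro v hv hd
  obtain ⟨p, hpc⟩ := CharP.exists F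
  have hp : Fact p.Prime := ⟨CharP.char_is_prime F p⟩
  obtain ⟨m, -, hm⟩ := FiniteField.card F p
  have hq1 : 1 < Fintype.card F := Fintype.one_lt_card
  by_cases hvp : v = p
  · subst hvp
    rcases Nat.lt_or_ge n 4 with h | h
    · obtain rfl : n = 3 := by omega
      have hg0 : 0 < Nat.gcd 3 (Fintype.card F - 1) := Nat.gcd_pos_of_pos_left _ (by norm_num)
      refine not_SC_of_ord hv (dvd_mul_right _ _) ?_ (exists_three_char (F := F) v)
      intro h1
      have h2 : (Fintype.card F - 1) / Nat.gcd 3 (Fintype.card F - 1) = 1 :=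
        Nat.eq_of_mul_eq_mul_left hv.pos (by rw [mul_one]; exact h1)
      have h3 : Fintype.card F - 1 = Nat.gcd 3 (Fintype.card F - 1) := by
        have := Nat.div_mul_cancel (Nat.gcd_dvd_right 3 (Fintype.card F - 1))
        rw [h2, one_mul] at this
        exact this.symm
      have h4 : Fintype.card F - 1 ∣ 3 := by
        conv_lhs => rw [h3]
        exact Nat.gcd_dvd_left _ _
      have h5 := (Nat.dvd_prime Nat.prime_three).1 h4
      apply h24.1
      refine ⟨rfl, ?_⟩
      omega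
    · exact nsc_char h
  have hvF : ¬ v ∣ Fintype.card F := by
    rw [hm]
    intro h
    exact hvp ((Nat.prime_dvd_prime_iff_eq hv hp.out).1 (hv.dvd_of_dvd_pow h))
  have hle := ee_le hv hvF hd
  by_cases hvq : v ∣ Fintype.card F - 1
  · have hw : wL (Fintype.card F) v = 2 := by rw [wL, if_pos (Or.inr hvq)]
    rcases Nat.lt_or_ge n 4 with h | h
    · obtain rfl : n = 3 := by omega
      -- `n = 3`, `v ∣ q - 1`
      by_cases hv2 : v ∣ (Fintype.card F - 1) / Nat.gcd 3 (Fintype.card F - 1)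
      · refine not_SC_of_ord hv (hv2.mul_left p) ?_ (exists_three_char (F := F) p)
        intro h1
        have h2 : p ∣ v := ⟨_, h1.symm⟩
        exact hvp ((Nat.prime_dvd_prime_iff_eq hp.out hv).1 h2).symm
      · have hv3 : v ∣ Nat.gcd 3 (Fintype.card F - 1) := by
          have h1 := Nat.div_mul_cancel (Nat.gcd_dvd_right 3 (Fintype.card F - 1))
          rw [← h1] at hvq
          exact (hv.dvd_mul.1 hvq).resolve_left hv2
        have hv3' : v = 3 := (Nat.prime_dvd_prime_iff_eq hv Nat.prime_three).1 (hv3.trans (Nat.gcd_dvd_left _ _))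
        subst hv3'
        have hg : Nat.gcd 3 (Fintype.card F - 1) = 3 := Nat.gcd_eq_left hvq
        rw [hg] at hv2
        obtain ⟨k, hk⟩ := hvq
        rw [hk, Nat.mul_div_cancel_left k (by norm_num)] at hv2
        refine not_SC_of_ord hv (dvd_mul_right 3 k) ?_
          (exists_three_tor hk ((Nat.Prime.coprime_iff_not_dvd Nat.prime_three).2 hv2))
        intro h1
        apply h24.1
        refine ⟨rfl, ?_⟩
        omega
    · exact nsc_small (p := p) hv hvp (by omega)
  · have hw : wL (Fintype.card F) v = ee (Fintype.card F) v := by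
      rw [wL, if_neg]
      rw [not_or]
      exact ⟨hvF, hvq⟩
    rcases Nat.lt_or_ge (ee (Fintype.card F) v + 1) n with h | h
    · exact nsc_small (p := p) hv hvp (by omega)
    · have h1 : ee (Fintype.card F) v = n - 1 ∨ ee (Fintype.card F) v = n := by omega
      rcases h1 with h1 | h1
      · exact nsc_tor (p := p) hn hv h24 hvp hvq h1 hd
      · exact nsc_sing (p := p) hn hv h24.1 hvp hvq h1 hd

end Cfsg.Agent.H39.DerPsl
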