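import Cfsg.Agent.H39.Der.Spec
import Cfsg.Agent.H396.ClEngine
import Cfsg.Agent.LieExceptional.CyclicSylow
import Cfsg.Agent.H93.PslCharpoly

/-!
# `SC (PSL_n(q)) v` forces `v - 1 ≤ 2 e f` (helper39, S3500)
-/

set_option autoImplicit false

namespace Cfsg.Agent.H39.DerPsl

open Matrix Polynomial Cfsg.Agent.ClassicalGeometry.AutPSL.Root Cfsg.Agent.ClassicalGeometry.AutPSL.Auto
  Cfsg.Agent.H199.PslAut

variable {F : Type*} [Field F] {n : ℕ}

theorem smul_pow_gcd [Fintype F] {g : SpecialLinearGroup (Fin n) F} (hn : 1 ≤ n)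
    (hg : g ∈ Subgroup.center (SpecialLinearGroup (Fin n) F)) : g ^ Nat.gcd n (Fintype.card F - 1) = 1 := by
  have h1 := pow_card_eq_one' (x := (⟨g, hg⟩ : Subgroup.center (SpecialLinearGroup (Fin n) F)))
  rw [Cfsg.Agent.H93.PslCharpoly.card_center n hn, Nat.card_eq_fintype_card] at h1
  exact congrArg Subtype.val h1

/-- an automorphism of a finite field is a power of the Frobenius -/
theorem exists_frob [Fintype F] {p : ℕ} [Fact p.Prime] [CharP F p] (τ : F ≃+* F) : ∃ j : ℕ, ∀ x : F, τ x = x ^ p ^ j := by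
  let _ : Algebra (ZMod p) F := ZMod.algebra F p
  have hcomm : (τ : F →+* F).comp (algebraMap (ZMod p) F) = algebraMap (ZMod p) F := Subsingleton.elim _ _
  let τ' : F →ₐ[ZMod p] F := { (τ : F →+* F) with commutes' := fun r => RingHom.congr_fun hcomm r }
  obtain ⟨j, hj⟩ := (FiniteField.bijective_frobeniusAlgHom_pow (ZMod p) F).2 τ'
  refine ⟨j, fun x => ?_⟩
  have h1 : ∀ (n : ℕ) (y : F), ((FiniteField.frobeniusAlgHom (ZMod p) F) ^ n) y = y ^ p ^ n := by
    intro n y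
    induction n generalizing y with
    | zero => simp
    | succ n ih =>
      rw [pow_succ, AlgHom.mul_apply, ih]
      simp [pow_succ, mul_comm, ← pow_mul]
  have h2 : τ' x = τ x := rfl
  rw [← h2, ← hj]
  exact h1 _ x

theorem eq_one_of_center [Fintype F] {v : ℕ} (hn : 1 ≤ n) (hco : Nat.Coprime v (Fintype.card F - 1))
    {z : Matrix.SpecialLinearGroup (Fin n) F} (hz : z ∈ Subgroup.center (Matrix.SpecialLinearGroup (Fin n) F))
    (hv : z ^ v = 1) : z = 1 := by
  have h1 := smul_pow_gcd hn hz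
  have h2 : orderOf z ∣ 1 := by
    rw [← hco]
    exact Nat.dvd_gcd (orderOf_dvd_of_pow_eq_one hv)
      ((orderOf_dvd_of_pow_eq_one h1).trans (Nat.gcd_dvd_right _ _))
  exact orderOf_eq_one_iff.1 (Nat.dvd_one.1 h2)

theorem eq_of_pr_eq [Fintype F] {v : ℕ} (hn : 1 ≤ n) (hco : Nat.Coprime v (Fintype.card F - 1))
    {x y : Matrix.SpecialLinearGroup (Fin n) F} (hx : x ^ v = 1) (hy : y ^ v = 1) (h : pr x = pr y) : x = y := by
  have hz : x⁻¹ * y ∈ Subgroup.center (Matrix.SpecialLinearGroup (Fin n) F) := by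
    rw [← pr_eq_one_iff, map_mul, map_inv, h, inv_mul_cancel]
  have h1 : (x⁻¹ * y) ^ v = 1 := by
    have hc : Commute x (x⁻¹ * y) := (Subgroup.mem_center_iff.1 hz x)
    have h2 : (x * (x⁻¹ * y)) ^ v = x ^ v * (x⁻¹ * y) ^ v := hc.mul_pow v
    rw [mul_inv_cancel_left, hx, hy, one_mul] at h2
    exact h2.symm
  have h3 := eq_one_of_center hn hco hz h1
  exact (inv_mul_eq_one.1 h3)

theorem exp_of_aut [Fintype F] (hn : 2 ≤ n) {p f : ℕ} [hp : Fact p.Prime] [CharP F p] (hq : Fintype.card F = p ^ f)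
    {v e : ℕ} (hv : v.Prime) (hvp : v ≠ p) (hvq : ¬ v ∣ Fintype.card F - 1) (hdeg : n < 2 * e)
    (he : orderOf ((Fintype.card F : ℕ) : ZMod v) = e) {x : Matrix.SpecialLinearGroup (Fin n) F} (hx : orderOf x = v)
    {k : ℕ} (hk : ¬ v ∣ k) (φ : MulAut (Matrix.ProjectiveSpecialLinearGroup (Fin n) F)) (hφ : φ (pr x) = pr x ^ k) :
    ∃ m : ℕ, (k : ZMod v) = (p : ZMod v) ^ m ∨ (k : ZMod v) = - (p : ZMod v) ^ m := by
  have hco : Nat.Coprime v (Fintype.card F - 1) := (Nat.Prime.coprime_iff_not_dvd hv).2 hvq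
  let K := AlgebraicClosure F
  have hcK : CharP K p := charP_of_injective_algebraMap (algebraMap F K).injective p
  have hxv : (x : Matrix (Fin n) (Fin n) F) ^ v = 1 := by
    have h1 : x ^ v = 1 := by rw [← hx, pow_orderOf_eq_one]
    have := congrArg Subtype.val h1
    simpa using this
  have hx1 : (x : Matrix (Fin n) (Fin n) F) ≠ 1 := by
    intro h
    have h1 : x = 1 := Subtype.ext h
    rw [h1, orderOf_one] at hx
    exact hv.one_lt.ne hx
  obtain ⟨l, hl, hl1⟩ := exists_ev_ne_one (K := K) ((Nat.coprime_primes hv hp.out).2 hvp) hxv hx1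
  -- the automorphisms
  have main : ∀ (g : GL (Fin n) F) (σ : F ≃+* F) (y : Matrix.SpecialLinearGroup (Fin n) F), y ^ v = 1 →
      Psi n F g (phi n F σ (pr y)) = pr x ^ k →
      ∃ j : ℕ, ∃ μ ∈ Ev K (y : Matrix (Fin n) (Fin n) F), μ ^ p ^ j = l ^ k := by
    intro g σ y hy h
    rw [phi_pr, Psi_pr, ← map_pow] at h
    have h1 : cj g (fld σ y) = x ^ k := by
      refine eq_of_pr_eq (by omega) hco ?_ ?_ h
      · rw [← map_pow, ← map_pow, hy, map_one, map_one]
      · rw [← pow_mul, mul_comm, pow_mul, ← hx, pow_orderOf_eq_one, one_pow]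
    obtain ⟨j, hj⟩ := exists_frob (p := p) σ
    have h2 : l ^ k ∈ Ev K ((y : Matrix (Fin n) (Fin n) F).map σ) := by
      have h3 := ev_pow hl k
      have h4 : (x : Matrix (Fin n) (Fin n) F) ^ k = (g : Matrix (Fin n) (Fin n) F) *
          (y : Matrix (Fin n) (Fin n) F).map σ * ((g⁻¹ : GL (Fin n) F) : Matrix (Fin n) (Fin n) F) := by
        rw [← Matrix.SpecialLinearGroup.coe_pow, ← h1]
        rfl
      rw [h4, ev_conj] at h3
      exact h3
    obtain ⟨μ, hμ, hμ2⟩ := ev_map (K := K) (σ := σ) (τ := iterateFrobenius K p j)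
      (fun a => by rw [iterateFrobenius_def, hj, map_pow]) (bijective_iterateFrobenius (R := K) (p := p) (n := j)).2 h2
    exact ⟨j, μ, hμ, by rw [← hμ2, iterateFrobenius_def]⟩
  have hxg : x ^ v = 1 := by rw [← hx, pow_orderOf_eq_one]
  rcases exists_form hn φ with ⟨g, σ, rfl⟩ | ⟨-, g, σ, rfl⟩
  · obtain ⟨j, μ, hμ, h⟩ := main g σ x hxg hφ
    obtain ⟨m, hm⟩ := exp_of_map hq hv hxv hdeg he hl hl1 hk hμ h
    exact ⟨m, Or.inl hm⟩
  · obtain ⟨j, μ, hμ, h⟩ := main g σ (itr x) (by rw [← map_pow, hxg, map_one]) hφ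
    have h1 : ((itr x : Matrix.SpecialLinearGroup (Fin n) F) : Matrix (Fin n) (Fin n) F) =
        ((x⁻¹ : Matrix.SpecialLinearGroup (Fin n) F) : Matrix (Fin n) (Fin n) F)ᵀ := rfl
    rw [h1, ev_transpose] at hμ
    obtain ⟨m, hm⟩ := exp_of_map_inv hq hv hxv hdeg he hl hl1 hk (ev_inv hμ) h
    exact ⟨m, Or.inr hm⟩

/-- **`SC` bounds the prime.** -/
theorem sub_one_le [Fintype F] (hn : 2 ≤ n) {p f : ℕ} [hp : Fact p.Prime] [CharP F p] (hq : Fintype.card F = p ^ f)
    {v e : ℕ} (hv : v.Prime) (hvp : v ≠ p) (hvq : ¬ v ∣ Fintype.card F - 1) (hdeg : n < 2 * e)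
    (he : orderOf ((Fintype.card F : ℕ) : ZMod v) = e)
    (hd : v ∣ Nat.card (Matrix.ProjectiveSpecialLinearGroup (Fin n) F))
    (hSC : Cfsg.Agent.H439.Der.SC (Matrix.ProjectiveSpecialLinearGroup (Fin n) F) v) : v - 1 ≤ 2 * (e * f) := by
  classical
  have hco : Nat.Coprime v (Fintype.card F - 1) := (Nat.Prime.coprime_iff_not_dvd hv).2 hvq
  have hf : f ≠ 0 := by
    rintro rfl
    have := Fintype.one_lt_card (α := F)
    rw [hq, pow_zero] at this
    exact absurd this (lt_irrefl _)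
  have hef : 0 < e * f := Nat.mul_pos (by omega) (Nat.pos_of_ne_zero hf)
  obtain ⟨x, hx, -⟩ := Cfsg.Agent.H396.Cl.exists_order (H := Matrix.SpecialLinearGroup (Fin n) F)
    (P := (⊤ : Subgroup (Matrix.ProjectiveSpecialLinearGroup (Fin n) F))) hv (by rwa [Subgroup.card_top])
  have hxv : x ^ v = 1 := by rw [← hx, pow_orderOf_eq_one]
  have := Fact.mk hv
  have hox : orderOf (pr x) = v := by
    refine orderOf_eq_prime (by rw [← map_pow, hxv, map_one]) fun h => ?_
    have h1 := eq_one_of_center (by omega) hco ((pr_eq_one_iff x).1 h) hxv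
    rw [h1, orderOf_one] at hx
    exact hv.one_lt.ne hx
  have key : ∀ k ∈ Finset.Ico 1 v, ∃ a : Bool × Fin (e * f),
      (k : ZMod v) = cond a.1 ((p : ZMod v) ^ (a.2 : ℕ)) (- (p : ZMod v) ^ (a.2 : ℕ)) := by
    intro k hk
    rw [Finset.mem_Ico] at hk
    have hvk : ¬ v ∣ k := fun h => absurd (Nat.le_of_dvd (by omega) h) (by omega)
    have hok : orderOf (pr x ^ k) = v := by
      rw [orderOf_pow' _ (by omega), hox, ((Nat.Prime.coprime_iff_not_dvd hv).2 hvk : Nat.gcd v k = 1), Nat.div_one]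
    obtain ⟨φ, hφ⟩ := hSC (pr x) (pr x ^ k) (by rw [hox]) (by rw [hok])
    obtain ⟨m, hm⟩ := exp_of_aut hn hq hv hvp hvq hdeg he hx hvk φ hφ
    have hpm : (p : ZMod v) ^ (m % (e * f)) = (p : ZMod v) ^ m := by
      have h1 : (p : ZMod v) ^ (e * f) = 1 := by
        have h2 : ((Fintype.card F : ℕ) : ZMod v) ^ e = 1 := by rw [← he, pow_orderOf_eq_one]
        rw [hq] at h2
        push_cast at h2
        rw [← h2, ← pow_mul, mul_comm]
      conv_rhs => rw [← Nat.div_add_mod m (e * f), pow_add, pow_mul, h1, one_pow, one_mul]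
    rcases hm with hm | hm
    · exact ⟨(true, ⟨m % (e * f), Nat.mod_lt _ hef⟩), by rw [hm]; exact hpm.symm⟩
    · exact ⟨(false, ⟨m % (e * f), Nat.mod_lt _ hef⟩), by rw [hm]; exact congrArg Neg.neg hpm.symm⟩
  have hinh : Nonempty (Bool × Fin (e * f)) := ⟨(true, ⟨0, hef⟩)⟩
  have key' : ∀ k : ℕ, ∃ a : Bool × Fin (e * f), k ∈ Finset.Ico 1 v →
      (k : ZMod v) = cond a.1 ((p : ZMod v) ^ (a.2 : ℕ)) (- (p : ZMod v) ^ (a.2 : ℕ)) := by
    intro k
    by_cases hk : k ∈ Finset.Ico 1 v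
    · obtain ⟨a, ha⟩ := key k hk
      exact ⟨a, fun _ => ha⟩
    · exact ⟨Classical.arbitrary _, fun h => absurd h hk⟩
  choose g hg using key'
  have hcard : (Finset.Ico 1 v).card ≤ (Finset.univ : Finset (Bool × Fin (e * f))).card := by
    refine Finset.card_le_card_of_injOn g (fun _ _ => Finset.mem_univ _) ?_
    intro a ha b hb hab
    have h1 : (a : ZMod v) = (b : ZMod v) := by rw [hg a ha, hg b hb, hab]
    rw [ZMod.natCast_eq_natCast_iff] at h1
    rw [Finset.coe_Ico, Set.mem_Ico] at ha hb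
    exact Nat.ModEq.eq_of_lt_of_lt h1 ha.2 hb.2
  rw [Nat.card_Ico, Finset.card_univ, Fintype.card_prod, Fintype.card_bool, Fintype.card_fin] at hcard
  exact hcard

end Cfsg.Agent.H39.DerPsl
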