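import Cfsg.Agent.H39.Der.PslNSC
import Cfsg.Agent.H834.Sax.Lin

/-!
# The row of `PSL_n(q)`, `n ≥ 3`, from the missing primes (helper39, S3500)

* `two_l62` : `L₆(2)`;
* `row_of_gap` : the row from `PGap` for the maximal subgroups (`L₆(2)` is free).
-/

set_option autoImplicit false

namespace Cfsg.Agent.H39.DerPsl

open Matrix Cfsg Cfsg.Agent.H439.Der Cfsg.Agent.H938.Sax Cfsg.Agent.OrdDiv Cfsg.Agent.H58.Rec

variable (OT : OrderTable.{0}) (hS : ∀ (X : Type) [Group X] [Finite X] [IsSimpleGroup X], Cfsg.IsKnownSimple' X)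

include OT hS

/-- `L₆(2)` -/
theorem two_l62 {F : Type} [Field F] [Fintype F] (hF : Fintype.card F = 2)
    (M : Subgroup (Matrix.ProjectiveSpecialLinearGroup (Fin 6) F)) (hM : M ≠ ⊤) :
    Two (Matrix.ProjectiveSpecialLinearGroup (Fin 6) F) M := by
  have hcard : Nat.card (Matrix.ProjectiveSpecialLinearGroup (Fin 6) F) = 20158709760 := H834.Sax.card_l62 hF
  have hfin : Finite (Matrix.ProjectiveSpecialLinearGroup (Fin 6) F) :=
    Nat.finite_of_card_ne_zero (by rw [hcard]; norm_num)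
  have key : ∀ h : ℕ, Nat.card M = h → h % 31 = 0 →
      H834.Sax.okS 31 1 5 [2, 3, 5, 7] ((cands H834.Sax.l62 20158709760).map ordN) [9999360] h 9 = true →
      Two (Matrix.ProjectiveSpecialLinearGroup (Fin 6) F) M := by
    intro h hh h5 hok
    have h9 : ∀ m ∈ M, orderOf m ≠ 9 := by
      intro m hm ho
      obtain ⟨K, _, _, hK, hna, hc, h9K⟩ := H834.Sax.exists_simple_of (H834.Sax.data_l62 OT hS hF) M (by simp) hh h5
        (by decide) hok ⟨m, hm, ho⟩
      rw [List.mem_singleton] at hc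
      exact H834.Sax.no_nine_9999360 OT hS hK hna hc h9K
    obtain ⟨g, hg⟩ := H834.Sax.nine_l62 hF
    obtain ⟨z, hz⟩ := exists_sing (F := F) (n := 6) (by norm_num)
    have hz63 : orderOf z = 63 := by
      rw [hz, hF]
      decide
    refine Two.of_orders (a := 9) (b := 63) (by norm_num) hg hz63 h9 fun m hm ho => ?_
    refine h9 (m ^ 7) (M.pow_mem hm 7) ?_
    rw [orderOf_pow' m (by norm_num), ho]
    decide
  rcases H834.Sax.pgap_l62 OT hS hF M hM with h | h | h
  · exact Two.of_pgap (nsc_psl (by norm_num) (by rw [hF]; decide)) h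
  · exact key _ h (by norm_num) (by decide +kernel)
  · exact key _ h (by norm_num) (by decide +kernel)

/-- **the row of `PSL_n(q)` from the missing primes** -/
theorem row_of_gap {F : Type} [Field F] [Fintype F] {n : ℕ} (hn : 3 ≤ n)
    (hex : (n, Fintype.card F) ∉ ({(3, 2), (3, 4), (4, 2)} : Finset (ℕ × ℕ)))
    (hG : ¬ (n = 6 ∧ Fintype.card F = 2) → ∀ M : Subgroup (Matrix.ProjectiveSpecialLinearGroup (Fin n) F),
      IsCoatom M → PGap (Matrix.ProjectiveSpecialLinearGroup (Fin n) F) M) :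
    Row (Matrix.ProjectiveSpecialLinearGroup (Fin n) F) := by
  intro M hM
  left
  by_cases h : n = 6 ∧ Fintype.card F = 2
  · obtain ⟨rfl, hF⟩ := h
    exact two_l62 OT hS hF M hM.1
  · exact Two.of_pgap (nsc_psl hn hex) (hG h M hM)

end Cfsg.Agent.H39.DerPsl
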