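import Cfsg.Agent.H199.PslAut
import Cfsg.Agent.H72.AdjPSL
import Cfsg.Agent.H439.Der.Tools

/-!
# Powers of a semisimple element of `PSL_n(q)` conjugate under automorphisms (helper39, S3500)

`x ∈ SL_n(q)` of prime order `v`, `e` the order of `q` modulo `v`, `n < 2 e`: if `x ^ k` is the image of `x` under
an automorphism (modulo scalars), then `k ≡ ± r ^ m` modulo `v`. So `SC (PSL_n(q)) v` forces `v - 1 ≤ 2 e f`.
-/

set_option autoImplicit false

namespace Cfsg.Agent.H39.DerPsl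

open Matrix Polynomial

section spec

variable {F : Type*} [Field F] {n : ℕ} {K : Type*} [Field K] [Algebra F K]

/-- the eigenvalues of `x` in `K` -/
def Ev (K : Type*) [Field K] [Algebra F K] (x : Matrix (Fin n) (Fin n) F) : Set K :=
  {μ | aeval μ x.charpoly = 0}

theorem mem_ev {x : Matrix (Fin n) (Fin n) F} {μ : K} : μ ∈ Ev K x ↔ aeval μ x.charpoly = 0 := Iff.rfl

theorem mem_ev_iff_spectrum {x : Matrix (Fin n) (Fin n) F} {μ : K} :
    μ ∈ Ev K x ↔ μ ∈ spectrum K (x.map (algebraMap F K)) := by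
  rw [Matrix.mem_spectrum_iff_isRoot_charpoly, mem_ev, Polynomial.IsRoot.def, aeval_def, eval₂_eq_eval_map,
    Matrix.charpoly_map]

theorem ev_conj (g : GL (Fin n) F) (x : Matrix (Fin n) (Fin n) F) :
    Ev K ((g : Matrix (Fin n) (Fin n) F) * x * ((g⁻¹ : GL (Fin n) F) : Matrix (Fin n) (Fin n) F)) = Ev K x := by
  ext μ
  rw [mem_ev, mem_ev, Matrix.coe_units_inv, Matrix.charpoly_units_conj g x]

theorem ev_transpose (x : Matrix (Fin n) (Fin n) F) : Ev K xᵀ = Ev K x := by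
  ext μ
  rw [mem_ev, mem_ev, Matrix.charpoly_transpose]

theorem map_pow' (x : Matrix (Fin n) (Fin n) F) (k : ℕ) :
    (x ^ k).map (algebraMap F K) = x.map (algebraMap F K) ^ k := by
  have := map_pow (algebraMap F K).mapMatrix x k
  simpa using this

theorem ev_pow {x : Matrix (Fin n) (Fin n) F} {μ : K} (h : μ ∈ Ev K x) (k : ℕ) : μ ^ k ∈ Ev K (x ^ k) := by
  rw [mem_ev_iff_spectrum] at h ⊢
  rw [map_pow']
  exact spectrum.pow_mem_pow _ k h

theorem ev_one {μ : K} (h : μ ∈ Ev K (1 : Matrix (Fin n) (Fin n) F)) : μ = 1 := by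
  rw [mem_ev, Matrix.charpoly_one] at h
  simp only [map_pow, map_sub, aeval_X, map_one] at h
  exact sub_eq_zero.1 (eq_zero_of_pow_eq_zero h)

theorem ev_inv {x : Matrix.SpecialLinearGroup (Fin n) F} {μ : K}
    (h : μ ∈ Ev K ((x⁻¹ : Matrix.SpecialLinearGroup (Fin n) F) : Matrix (Fin n) (Fin n) F)) :
    μ⁻¹ ∈ Ev K (x : Matrix (Fin n) (Fin n) F) := by
  rw [mem_ev_iff_spectrum] at h ⊢
  let a : (Matrix (Fin n) (Fin n) K)ˣ := Units.map (algebraMap F K).mapMatrix.toMonoidHom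
    (Matrix.SpecialLinearGroup.toGL x : GL (Fin n) F)
  have h1 : (x : Matrix (Fin n) (Fin n) F).map (algebraMap F K) = (a : Matrix (Fin n) (Fin n) K) := rfl
  have h2 : ((x⁻¹ : Matrix.SpecialLinearGroup (Fin n) F) : Matrix (Fin n) (Fin n) F).map (algebraMap F K) =
      ((a⁻¹ : (Matrix (Fin n) (Fin n) K)ˣ) : Matrix (Fin n) (Fin n) K) := by
    have h3 : a⁻¹ = Units.map (algebraMap F K).mapMatrix.toMonoidHom
      (Matrix.SpecialLinearGroup.toGL x⁻¹ : GL (Fin n) F) := by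
      rw [map_inv Matrix.SpecialLinearGroup.toGL, map_inv]
    rw [h3]
    rfl
  rw [h1]
  rw [h2] at h
  exact spectrum.inv₀_mem_iff.2 h

theorem ev_frob [Fintype F] {x : Matrix (Fin n) (Fin n) F} {μ : K} (h : μ ∈ Ev K x) : μ ^ Fintype.card F ∈ Ev K x := by
  have h1 := Polynomial.aeval_algHom_apply (FiniteField.frobeniusAlgHom F K) μ x.charpoly
  rw [mem_ev] at h ⊢
  rw [h, map_zero] at h1
  simpa [FiniteField.coe_frobeniusAlgHom] using h1

theorem ev_map {σ : F ≃+* F} {τ : K →+* K} (hτ : ∀ a : F, τ (algebraMap F K a) = algebraMap F K (σ a))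
    (hs : Function.Surjective τ) {x : Matrix (Fin n) (Fin n) F} {μ : K} (h : μ ∈ Ev K (x.map σ)) :
    ∃ μ' ∈ Ev K x, τ μ' = μ := by
  obtain ⟨μ', rfl⟩ := hs μ
  refine ⟨μ', ?_, rfl⟩
  rw [mem_ev] at h ⊢
  have h1 : (x.map σ).charpoly = x.charpoly.map (σ : F →+* F) := Matrix.charpoly_map x (σ : F →+* F)
  rw [h1, aeval_def, eval₂_map] at h
  have h2 : (algebraMap F K).comp (σ : F →+* F) = τ.comp (algebraMap F K) := by
    ext a
    exact (hτ a).symm
  rw [h2, ← hom_eval₂] at h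
  rw [aeval_def]
  exact (map_eq_zero τ).1 h

/-- an element of order prime to the characteristic without eigenvalue `≠ 1` -/
theorem exists_ev_ne_one [IsAlgClosed K] {p : ℕ} [hp : Fact p.Prime] [CharP F p] {x : Matrix (Fin n) (Fin n) F} {v : ℕ}
    (hv : Nat.Coprime v p) (hx : x ^ v = 1) (hx1 : x ≠ 1) : ∃ μ ∈ Ev K x, μ ≠ 1 := by
  by_contra hcon
  push Not at hcon
  apply hx1
  have hne : Nonempty (Fin n) := by
    by_contra h
    rw [not_nonempty_iff] at h
    exact hx1 (Subsingleton.elim _ _)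
  obtain ⟨m, h0⟩ : ∃ m, x.charpoly.map (algebraMap F K) = (X - C 1) ^ m := by
    have h1 := (IsAlgClosed.splits (x.charpoly.map (algebraMap F K))).eq_prod_roots_of_monic
      ((Matrix.charpoly_monic x).map _)
    have h2 : (x.charpoly.map (algebraMap F K)).roots =
        Multiset.replicate (Multiset.card (x.charpoly.map (algebraMap F K)).roots) 1 := by
      refine Multiset.eq_replicate.2 ⟨rfl, fun b hb => hcon b ?_⟩
      rw [mem_ev, aeval_def, eval₂_eq_eval_map]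
      exact (Polynomial.mem_roots'.1 hb).2
    rw [h2, Multiset.map_replicate, Multiset.prod_replicate] at h1
    exact ⟨_, h1⟩
  have h1 : x.charpoly = (X - C 1) ^ m :=
    Polynomial.map_injective _ (algebraMap F K).injective (by rw [h0]; simp)
  have h2 : (x - 1) ^ m = 0 := by
    have h := Matrix.aeval_self_charpoly x
    rw [h1] at h
    simpa using h
  have h3 : (x - 1) ^ (p ^ m) = 0 := pow_eq_zero_of_le (Nat.lt_pow_self hp.out.one_lt).le h2
  have h4 : x ^ (p ^ m) = 1 := by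
    have h := sub_pow_char_pow_of_commute (p := p) (n := m) (Commute.one_right x)
    rw [h3, one_pow] at h
    exact (sub_eq_zero.1 h.symm)
  have h5 : orderOf x ∣ 1 := by
    rw [← (Nat.Coprime.pow_right m hv)]
    exact Nat.dvd_gcd (orderOf_dvd_of_pow_eq_one hx) (orderOf_dvd_of_pow_eq_one h4)
  exact orderOf_eq_one_iff.1 (Nat.dvd_one.1 h5)

theorem orderOf_ev {v : ℕ} (hv : v.Prime) {x : Matrix (Fin n) (Fin n) F} (hx : x ^ v = 1) {μ : K} (h : μ ∈ Ev K x)
    (h1 : μ ≠ 1) : orderOf μ = v := by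
  have := Fact.mk hv
  refine orderOf_eq_prime ?_ h1
  have h2 := ev_pow h v
  rw [hx] at h2
  exact ev_one h2

omit [Algebra F K] in
theorem pow_eq_iff {μ : K} {v : ℕ} (hv : 0 < v) (h : orderOf μ = v) {a b : ℕ} :
    μ ^ a = μ ^ b ↔ (a : ZMod v) = (b : ZMod v) := by
  have hμ : μ ≠ 0 := by
    rintro rfl
    have h1 : (0 : K) ^ v = 1 := by rw [← h, pow_orderOf_eq_one]
    rw [zero_pow hv.ne'] at h1
    exact zero_ne_one h1
  have h1 : orderOf (Units.mk0 μ hμ) = v := by rw [← orderOf_units, Units.val_mk0, h]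
  rw [ZMod.natCast_eq_natCast_iff, ← h1, ← pow_eq_pow_iff_modEq]
  constructor
  · intro h2
    apply Units.ext
    simpa using h2
  · intro h2
    have := congrArg Units.val h2
    simpa using this

/-- **The eigenvalues different from `1` form one orbit of the Frobenius.** -/
theorem ev_orbit [Fintype F] {v e : ℕ} (hv : v.Prime) {x : Matrix (Fin n) (Fin n) F} (hx : x ^ v = 1)
    (hdeg : n < 2 * e) (he : orderOf ((Fintype.card F : ℕ) : ZMod v) = e) {l μ : K} (hl : l ∈ Ev K x) (hl1 : l ≠ 1)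
    (hμ : μ ∈ Ev K x) (hμ1 : μ ≠ 1) : ∃ i : ℕ, μ = l ^ (Fintype.card F ^ i) := by
  classical
  set q := Fintype.card F with hq
  by_contra hcon
  push Not at hcon
  have hol := orderOf_ev hv hx hl hl1
  have hoμ := orderOf_ev hv hx hμ hμ1
  have hpow : ∀ (ν : K), ν ∈ Ev K x → ∀ i : ℕ, ν ^ (q ^ i) ∈ Ev K x := by
    intro ν hν i
    induction i with
    | zero => simpa using hν
    | succ i ih =>
      rw [pow_succ q i, pow_mul]
      exact ev_frob ih
  have hinj : ∀ (ν : K), orderOf ν = v → ∀ i < e, ∀ j < e, ν ^ (q ^ i) = ν ^ (q ^ j) → i = j := by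
    intro ν hν i hi j hj hij
    rw [pow_eq_iff hv.pos hν] at hij
    push_cast at hij
    exact pow_injOn_Iio_orderOf (by rw [he]; exact hi) (by rw [he]; exact hj) hij
  let R : Finset K := (x.charpoly.map (algebraMap F K)).roots.toFinset
  have hR : R.card ≤ n := by
    refine (Multiset.toFinset_card_le _).trans ((Polynomial.card_roots' _).trans ?_)
    rw [Polynomial.natDegree_map, Matrix.charpoly_natDegree_eq_dim, Fintype.card_fin]
  have hmem : ∀ ν : K, ν ∈ Ev K x → ν ∈ R := by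
    intro ν hν
    rw [Multiset.mem_toFinset, Polynomial.mem_roots ((Matrix.charpoly_monic x).map _).ne_zero,
      Polynomial.IsRoot.def, ← eval₂_eq_eval_map, ← aeval_def]
    exact hν
  let f : Bool × Fin e → K := fun a => cond a.1 (l ^ (q ^ (a.2 : ℕ))) (μ ^ (q ^ (a.2 : ℕ)))
  have hmix : ∀ i < e, ∀ j < e, l ^ (q ^ i) ≠ μ ^ (q ^ j) := by
    intro i hi j hj h
    refine hcon (i + (e - j)) ?_
    rw [pow_add q, pow_mul, h, ← pow_mul, ← pow_add, show j + (e - j) = e by omega]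
    conv_lhs => rw [← pow_one μ]
    rw [pow_eq_iff hv.pos hoμ]
    push_cast
    rw [← he, pow_orderOf_eq_one]
  have hf : Function.Injective f := by
    rintro ⟨a, i⟩ ⟨b, j⟩ h
    cases a <;> cases b
    · have h1 : μ ^ (q ^ (i : ℕ)) = μ ^ (q ^ (j : ℕ)) := h
      rw [Fin.ext (hinj μ hoμ i i.2 j j.2 h1)]
    · have h1 : μ ^ (q ^ (i : ℕ)) = l ^ (q ^ (j : ℕ)) := h
      exact absurd h1.symm (hmix j j.2 i i.2)
    · have h1 : l ^ (q ^ (i : ℕ)) = μ ^ (q ^ (j : ℕ)) := h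
      exact absurd h1 (hmix i i.2 j j.2)
    · have h1 : l ^ (q ^ (i : ℕ)) = l ^ (q ^ (j : ℕ)) := h
      rw [Fin.ext (hinj l hol i i.2 j j.2 h1)]
  have hcard : (Finset.univ : Finset (Bool × Fin e)).card ≤ R.card := by
    refine Finset.card_le_card_of_injOn f (fun a _ => ?_) hf.injOn
    apply hmem
    rcases a with ⟨a, i⟩
    cases a
    · exact hpow μ hμ i
    · exact hpow l hl i
  rw [Finset.card_univ, Fintype.card_prod, Fintype.card_bool, Fintype.card_fin] at hcard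
  omega

/-- the exponent, field automorphisms -/
theorem exp_of_map [Fintype F] {p f j : ℕ} (hq : Fintype.card F = p ^ f) {v e : ℕ} (hv : v.Prime)
    {x : Matrix (Fin n) (Fin n) F} (hx : x ^ v = 1) (hdeg : n < 2 * e)
    (he : orderOf ((Fintype.card F : ℕ) : ZMod v) = e) {l : K} (hl : l ∈ Ev K x) (hl1 : l ≠ 1) {k : ℕ}
    (hk : ¬ v ∣ k) {μ : K} (hμ : μ ∈ Ev K x) (h : μ ^ p ^ j = l ^ k) : ∃ m : ℕ, (k : ZMod v) = (p : ZMod v) ^ m := by
  have hol := orderOf_ev hv hx hl hl1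
  have hμ1 : μ ≠ 1 := by
    rintro rfl
    rw [one_pow] at h
    have h2 := orderOf_dvd_of_pow_eq_one h.symm
    rw [hol] at h2
    exact hk h2
  obtain ⟨i, rfl⟩ := ev_orbit hv hx hdeg he hl hl1 hμ hμ1
  rw [← pow_mul, pow_eq_iff hv.pos hol, hq] at h
  refine ⟨f * i + j, ?_⟩
  rw [← h]
  push_cast
  rw [← pow_mul, ← pow_add]

/-- the exponent, graph automorphisms -/
theorem exp_of_map_inv [Fintype F] {p f j : ℕ} (hq : Fintype.card F = p ^ f) {v e : ℕ} (hv : v.Prime)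
    {x : Matrix (Fin n) (Fin n) F} (hx : x ^ v = 1) (hdeg : n < 2 * e)
    (he : orderOf ((Fintype.card F : ℕ) : ZMod v) = e) {l : K} (hl : l ∈ Ev K x) (hl1 : l ≠ 1) {k : ℕ}
    (hk : ¬ v ∣ k) {μ : K} (hμ : μ⁻¹ ∈ Ev K x) (h : μ ^ p ^ j = l ^ k) :
    ∃ m : ℕ, (k : ZMod v) = - (p : ZMod v) ^ m := by
  have hol := orderOf_ev hv hx hl hl1
  have hl0 : l ≠ 0 := by
    rintro rfl
    have h1 : (0 : K) ^ v = 1 := by rw [← hol, pow_orderOf_eq_one]
    rw [zero_pow hv.pos.ne'] at h1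
    exact zero_ne_one h1
  have hμ1 : μ⁻¹ ≠ 1 := by
    intro h0
    rw [inv_eq_one] at h0
    subst h0
    rw [one_pow] at h
    have h2 := orderOf_dvd_of_pow_eq_one h.symm
    rw [hol] at h2
    exact hk h2
  obtain ⟨i, hi⟩ := ev_orbit hv hx hdeg he hl hl1 hμ hμ1
  have h3 : l ^ (k + Fintype.card F ^ i * p ^ j) = l ^ 0 := by
    rw [pow_zero, pow_add, ← h, pow_mul, ← hi, inv_pow, mul_inv_cancel₀]
    exact pow_ne_zero _ (by rintro rfl; rw [_root_.inv_zero] at hi; exact pow_ne_zero _ hl0 hi.symm)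
  rw [pow_eq_iff hv.pos hol, hq] at h3
  refine ⟨f * i + j, ?_⟩
  push_cast at h3
  rw [← pow_mul, ← pow_add] at h3
  exact eq_neg_of_add_eq_zero_left h3

end spec

end Cfsg.Agent.H39.DerPsl
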